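import Cfsg.Agent.PConjDegree.RootSum
import Cfsg.Agent.Blocks.TraceFormula
import Cfsg.Agent.Blocks.Integrality
import Cfsg.Agent.Blocks.Regular
import Cfsg.Agent.Blocks.Congr
import Cfsg.Agent.Char.GaloisTwist
import Cfsg.Agent.Char.PowTwist
import Mathlib.GroupTheory.Sylow

/-!
# The number of `p`-conjugates and the degree

The sum of the `p`-conjugates of an irreducible character is divisible by the `p`-part of their
number.  If that number times the degree attains the `p`-part of the group order, the idempotent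
of the orbit is locally integral, so the orbit sum vanishes on `p`-singular elements by weak
block orthogonality, and its restriction to a Sylow subgroup forces `p ^ a` to divide the degree.
-/

set_option autoImplicit false
set_option linter.style.haveILetI false
set_option linter.unusedSectionVars false

namespace CfsgLib.PConjDegree

open Cfsg Finset CfsgLib.Block CfsgLib.Block.Chr CfsgLib.Char
open scoped ComplexConjugate Classical

universe u

variable {G : Type u} [Group G] [Fintype G]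

/-- The power twist of a character by a unit modulo the group order. -/
noncomputable def tw (χ : IrrCharacter G) (j : (ZMod (Nat.card G))ˣ) : IrrCharacter G :=
  ⟨fun g => (χ : G → ℂ) (g ^ (j : ZMod (Nat.card G)).val),
    CfsgLib.Char.PowTwist.isIrrCharacter_pow (ZMod.val_coe_unit_coprime j) χ.2⟩

theorem tw_apply (χ : IrrCharacter G) (j : (ZMod (Nat.card G))ˣ) (g : G) :
    (tw χ j : G → ℂ) g = (χ : G → ℂ) (g ^ (j : ZMod (Nat.card G)).val) := rfl

theorem tw_one (χ : IrrCharacter G) : tw χ 1 = χ := by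
  refine Subtype.ext (funext fun g => ?_)
  rw [tw_apply, Units.val_one, ← Nat.cast_one, ZMod.val_natCast,
    pow_congr pow_card_eq_one' (Nat.mod_mod 1 (Nat.card G)), pow_one]

theorem tw_mul (χ : IrrCharacter G) (i j : (ZMod (Nat.card G))ˣ) :
    tw χ (i * j) = tw (tw χ j) i := by
  haveI : NeZero (Nat.card G) := ⟨Nat.card_pos.ne'⟩
  refine Subtype.ext (funext fun g => ?_)
  rw [tw_apply, tw_apply, tw_apply, ← pow_mul, Units.val_mul, ZMod.val_mul]
  rw [pow_congr pow_card_eq_one' (Nat.mod_mod _ (Nat.card G))]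

/-- Each member of the orbit is reached equally often. -/
theorem sum_orbit (χ : IrrCharacter G) (U : Subgroup (ZMod (Nat.card G))ˣ) [Fintype U]
    (O : Finset (IrrCharacter G)) (hO : ∀ ψ, ψ ∈ O ↔ ∃ j ∈ U, tw χ j = ψ) :
    ∃ s : ℕ, ∀ F : IrrCharacter G → ℂ, ∑ j : U, F (tw χ (j : (ZMod (Nat.card G))ˣ)) = (s : ℂ) * ∑ ψ ∈ O, F ψ := by
  refine ⟨((univ : Finset U).filter fun j : U => tw χ (j : (ZMod (Nat.card G))ˣ) = χ).card, fun F => ?_⟩
  rw [← sum_fiberwise_of_maps_to (g := fun j : U => tw χ (j : (ZMod (Nat.card G))ˣ)) (t := O)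
    (fun j _ => (hO _).2 ⟨j.1, j.2, rfl⟩), mul_sum]
  refine sum_congr rfl fun ψ hψ => ?_
  rw [sum_congr rfl fun j hj => by rw [(mem_filter.1 hj).2], sum_const, nsmul_eq_mul]
  congr 2
  obtain ⟨i, hi, rfl⟩ := (hO ψ).1 hψ
  refine (card_bij' (fun j _ => (⟨i, hi⟩ : U) * j) (fun j _ => (⟨i, hi⟩ : U)⁻¹ * j) ?_ ?_
    (fun j _ => inv_mul_cancel_left _ j) (fun j _ => mul_inv_cancel_left _ j)).symm
  · intro j hj
    refine mem_filter.2 ⟨mem_univ _, ?_⟩
    rw [Subgroup.coe_mul, tw_mul, (mem_filter.1 hj).2]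
  · intro j hj
    refine mem_filter.2 ⟨mem_univ _, ?_⟩
    rw [Subgroup.coe_mul, Subgroup.coe_inv, tw_mul, (mem_filter.1 hj).2, ← tw_mul, inv_mul_cancel,
      tw_one]

variable {p : ℕ}

/-- The sum over the orbit is divisible by the `p`-part of the size of the orbit. -/
theorem orbit_divisible (hp : p.Prime) (χ : IrrCharacter G) {a g' : ℕ} (hg : ¬ p ∣ g')
    (hn : g' * p ^ a = Nat.card G) (O : Finset (IrrCharacter G))
    (hO : ∀ ψ, ψ ∈ O ↔ ∃ j : (ZMod (Nat.card G))ˣ,
      ZMod.unitsMap (hn ▸ dvd_mul_right g' (p ^ a) : g' ∣ Nat.card G) j = 1 ∧ tw χ j = ψ) :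
    ∃ u : ℕ, ¬ p ∣ u ∧ ∀ g : G, ∃ w : ℂ, IsIntegral ℤ w ∧
      (u : ℂ) * ∑ ψ ∈ O, (ψ : G → ℂ) g = (p : ℂ) ^ (O.card.factorization p) * w := by
  haveI : NeZero (Nat.card G) := ⟨Nat.card_pos.ne'⟩
  set U := (ZMod.unitsMap (hn ▸ dvd_mul_right g' (p ^ a) : g' ∣ Nat.card G)).ker with hU
  obtain ⟨u, hu, hcard, hsum⟩ := exists_units_sum hp hg hn U hU
  obtain ⟨s, hs⟩ := sum_orbit χ U O fun ψ => by simpa [hU, MonoidHom.mem_ker] using hO ψ
  refine ⟨u, hu, fun g => ?_⟩
  obtain ⟨ms, -, hms, hpow⟩ := IsCharacter.exists_roots (isCharacter_irr χ) g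
  choose w hw he using hsum
  have hz : ∀ z ∈ ms, z ^ Nat.card G = 1 := fun z hz => by
    obtain ⟨k, hk⟩ := orderOf_dvd_natCard g
    rw [hk, pow_mul, hms z hz, one_pow]
  set W : ℂ := (ms.attach.map fun z => w z.1 (hz z.1 z.2)).sum with hW
  have hWint : IsIntegral ℤ W := by
    refine Subalgebra.multiset_sum_mem (integralClosure ℤ ℂ) fun x hx => ?_
    obtain ⟨z, -, rfl⟩ := Multiset.mem_map.1 hx
    exact hw _ _
  have h1 : (s : ℂ) * ∑ ψ ∈ O, (ψ : G → ℂ) g = (p : ℂ) ^ (a - 1) * W := by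
    rw [← hs fun ψ => (ψ : G → ℂ) g]
    calc ∑ j : U, (χ : G → ℂ) (g ^ (((j : (ZMod (Nat.card G))ˣ) : ZMod (Nat.card G))).val)
        = ∑ j : U, (ms.attach.map fun z => z.1 ^ (((j : (ZMod (Nat.card G))ˣ) : ZMod (Nat.card G))).val).sum := by
          refine sum_congr rfl fun j _ => ?_
          rw [hpow, Multiset.attach_map_val' ms fun z => z ^ _]
      _ = (ms.attach.map fun z => ∑ j : U, z.1 ^ (((j : (ZMod (Nat.card G))ˣ) : ZMod (Nat.card G))).val).sum :=
          Multiset.sum_map_sum.symm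
      _ = (ms.attach.map fun z => (p : ℂ) ^ (a - 1) * w z.1 (hz z.1 z.2)).sum := by
          exact congrArg Multiset.sum (Multiset.map_congr rfl fun z _ => by
            convert he z.1 (hz z.1 z.2))
      _ = _ := Multiset.sum_map_mul_left
  have h2 : (p : ℂ) ^ (a - 1) * u = (s : ℂ) * O.card := by
    have := hs fun _ => 1
    simp only [sum_const, card_univ, nsmul_eq_mul, mul_one] at this
    rw [← this, ← Nat.card_eq_fintype_card, hcard]
    push_cast
    rfl
  have hs0 : (s : ℂ) ≠ 0 := fun h => by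
    rw [h, zero_mul] at h2
    rcases mul_eq_zero.1 h2 with h3 | h3
    · exact pow_ne_zero _ (Nat.cast_ne_zero.2 hp.ne_zero) h3
    · exact hu (by rw [Nat.cast_eq_zero.1 h3]; exact dvd_zero p)
  refine ⟨((O.card / p ^ (O.card.factorization p) : ℕ) : ℂ) * W,
    (isIntegral_natCast_complex _).mul hWint, ?_⟩
  rw [← mul_assoc, show (p : ℂ) ^ (O.card.factorization p) *
    ((O.card / p ^ (O.card.factorization p) : ℕ) : ℂ) = (O.card : ℂ) by
      exact_mod_cast Nat.ordProj_mul_ordCompl_eq_self O.card p]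
  refine mul_left_cancel₀ hs0 ?_
  linear_combination (u : ℂ) * h1 + W * h2

/-- A character averages to an integer over a subgroup. -/
theorem exists_sum_subgroup (χ : IrrCharacter G) (P : Subgroup G) [Fintype P] :
    ∃ N : ℕ, ∑ x : P, (χ : G → ℂ) (x : G) = ((Nat.card P * N : ℕ) : ℂ) := by
  obtain ⟨N, hN⟩ := IsCharacter.exists_classInner_eq_natCast'
    (IsCharacter.restrict (isCharacter_irr χ) P) (isCharacter_one (G := P))
  refine ⟨N, ?_⟩
  have h := sum_eq_card_mul_classInner (G := P) (fun x => (χ : G → ℂ) (x : G)) (fun _ => 1)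
  simp only [map_one, mul_one] at h
  rw [h, hN, Nat.cast_mul]

/-- The bound on the number of `p`-conjugates times the degree. -/
theorem factorization_bound (hp : p.Prime) (χ : IrrCharacter G) {r : ℕ}
    (hr : Nat.card {ψ : IrrCharacter G // ∃ σ : ℂ ≃+* ℂ,
      σ (Complex.exp (2 * Real.pi * Complex.I / ((Nat.card G / p ^ (Nat.card G).factorization p) : ℕ))) =
        Complex.exp (2 * Real.pi * Complex.I / ((Nat.card G / p ^ (Nat.card G).factorization p) : ℕ)) ∧
      (ψ : G → ℂ) = fun g => σ ((χ : G → ℂ) g)} = r) :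
    (r * charDegree (χ : G → ℂ)).factorization p ≤ (Nat.card G).factorization p ∧
      (p ^ (Nat.card G).factorization p ∣ r * charDegree (χ : G → ℂ) →
        p ^ (Nat.card G).factorization p ∣ charDegree (χ : G → ℂ)) := by
  haveI := Fact.mk hp
  haveI : NeZero (Nat.card G) := ⟨Nat.card_pos.ne'⟩
  letI := irrFintype (G := G)
  set a := (Nat.card G).factorization p with ha
  set g' := Nat.card G / p ^ a with hg'
  have hn : g' * p ^ a = Nat.card G := Nat.div_mul_cancel (Nat.ordProj_dvd _ p)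
  have hg : ¬ p ∣ g' := Nat.not_dvd_ordCompl hp Nat.card_pos.ne'
  have hg0 : g' ≠ 0 := fun h => hg (h ▸ dvd_zero p)
  haveI : NeZero g' := ⟨hg0⟩
  have hgn : g' ∣ Nat.card G := hn ▸ dvd_mul_right g' (p ^ a)
  have hζ := Complex.isPrimitiveRoot_exp g' hg0
  set ζ := Complex.exp (2 * Real.pi * Complex.I / (g' : ℕ)) with hζdef
  have hζn : ζ ^ Nat.card G = 1 := by rw [← hn, pow_mul, hζ.pow_eq_one, one_pow]
  have hfix : ∀ k : ℕ, ζ ^ k = ζ ↔ (k : ZMod g') = 1 := fun k => by
    conv_lhs => rhs; rw [← pow_one ζ]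
    rw [(isOfFinOrder_iff_pow_eq_one.2 ⟨_, Nat.pos_of_ne_zero hg0, hζ.pow_eq_one⟩).pow_eq_pow_iff_modEq,
      ← hζ.eq_orderOf, ← ZMod.natCast_eq_natCast_iff, Nat.cast_one]
  -- the orbit as power twists
  set O : Finset (IrrCharacter G) := univ.filter fun ψ : IrrCharacter G => ∃ σ : ℂ ≃+* ℂ,
    σ ζ = ζ ∧ (ψ : G → ℂ) = fun g => σ ((χ : G → ℂ) g) with hOdef
  have hroots : ∀ (σ : ℂ ≃+* ℂ) (k : ℕ), (∀ z : ℂ, z ^ Nat.card G = 1 → σ z = z ^ k) →
      ∀ g : G, σ ((χ : G → ℂ) g) = (χ : G → ℂ) (g ^ k) := fun σ k h g =>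
    IsCharacter.map_ringEquiv_eq_pow (isCharacter_irr χ) σ fun z hz => h z (by
      obtain ⟨m, hm⟩ := orderOf_dvd_natCard g
      rw [hm, pow_mul, hz, one_pow])
  have hO : ∀ ψ, ψ ∈ O ↔ ∃ j : (ZMod (Nat.card G))ˣ,
      ZMod.unitsMap hgn j = 1 ∧ tw χ j = ψ := fun ψ => by
    rw [hOdef, mem_filter, and_iff_right (mem_univ _)]
    constructor
    · rintro ⟨σ, hσ, hψ⟩
      obtain ⟨k, hk, hσk⟩ := exists_pow_of_ringEquiv σ (Nat.card_pos (α := G)).ne'
      refine ⟨ZMod.unitOfCoprime k hk, ?_, ?_⟩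
      · refine Units.ext ?_
        rw [ZMod.unitsMap_val, ZMod.coe_unitOfCoprime, ZMod.cast_natCast hgn, Units.val_one]
        exact (hfix k).1 (by rw [← hσk ζ hζn, hσ])
      · refine Subtype.ext (funext fun g => ?_)
        rw [tw_apply, ZMod.coe_unitOfCoprime, ZMod.val_natCast,
          pow_congr pow_card_eq_one' (Nat.mod_mod k (Nat.card G)), hψ]
        exact (hroots σ k hσk g).symm
    · rintro ⟨j, hj, rfl⟩
      obtain ⟨σ, hσ⟩ := exists_ringEquiv_pow (Nat.card_pos (α := G)) (ZMod.val_coe_unit_coprime j)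
      refine ⟨σ, ?_, funext fun g => (hroots σ _ hσ g).symm⟩
      rw [hσ ζ hζn, hfix, ← ZMod.cast_eq_val]
      exact (ZMod.unitsMap_val hgn j).symm.trans (by rw [hj, Units.val_one])
  have hr' : O.card = r := by
    rw [← hr, Nat.card_eq_fintype_card, Fintype.card_subtype]
  have hdeg : ∀ ψ ∈ O, (ψ : G → ℂ) 1 = (χ : G → ℂ) 1 := fun ψ hψ => by
    obtain ⟨j, -, rfl⟩ := (hO ψ).1 hψ
    rw [tw_apply, one_pow]
  have hχO : χ ∈ O := (hO χ).2 ⟨1, map_one _, tw_one χ⟩
  have hr0 : r ≠ 0 := hr' ▸ (card_pos.2 ⟨χ, hχO⟩).ne'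
  obtain ⟨hd1, hd0⟩ := irr_one χ
  set d := charDegree (χ : G → ℂ) with hd
  obtain ⟨u, hu, hw⟩ := orbit_divisible hp χ hg hn O hO
  rw [hr'] at hw
  set c := r.factorization p with hc
  choose w hwi hwe using hw
  obtain ⟨M, hM⟩ := exists_isPModular hp
  haveI := hM.2.1.isPrime
  obtain ⟨q, hq⟩ := charDegree_dvd_card χ
  rw [← hd] at hq
  have hpc : (p : ℂ) ^ c ≠ 0 := pow_ne_zero _ (Nat.cast_ne_zero.2 hp.ne_zero)
  have hcls : ∀ g x : G, w (x * g * x⁻¹) = w g := fun g x => by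
    refine mul_left_cancel₀ hpc ?_
    rw [← hwe, ← hwe]
    simp only [isClassFunction_irr _ g x]
  -- `p ^ c` divides the order over the degree
  have hqdvd : p ^ c ∣ q := by
    set f : G → ℂ := fun g => w g⁻¹
    have hf : IsIntClass M f := ⟨fun g x => by
      show w (x * g * x⁻¹)⁻¹ = w g⁻¹
      rw [show (x * g * x⁻¹)⁻¹ = x * g⁻¹ * x⁻¹ by group, hcls],
      fun g => memLocalRing_of_isIntegral (hwi _)⟩
    have h1 := omega_mem χ hf
    have h2 : omega (χ : G → ℂ) f = ((u * q : ℕ) : ℂ) / (p : ℂ) ^ c := by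
      have h3 : ∀ ψ ∈ O, ∑ g : G, (χ : G → ℂ) g * (ψ : G → ℂ) g⁻¹ =
          (Nat.card G : ℂ) * if χ = ψ then 1 else 0 := fun ψ _ => by
        rw [← classInner_irr, ← sum_eq_card_mul_classInner]
        simp only [conj_irr]
      have h4 : (p : ℂ) ^ c * ∑ g : G, f g * (χ : G → ℂ) g = (u : ℂ) * Nat.card G := by
        calc (p : ℂ) ^ c * ∑ g : G, f g * (χ : G → ℂ) g
            = ∑ g : G, ((p : ℂ) ^ c * w g⁻¹) * (χ : G → ℂ) g := by
              rw [mul_sum]
              exact sum_congr rfl fun g _ => (mul_assoc _ _ _).symm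
          _ = (u : ℂ) * ∑ ψ ∈ O, ∑ g : G, (χ : G → ℂ) g * (ψ : G → ℂ) g⁻¹ := by
              rw [sum_comm, mul_sum]
              refine sum_congr rfl fun g _ => ?_
              rw [← hwe, mul_assoc, sum_mul]
              congr 1
              exact sum_congr rfl fun ψ _ => mul_comm _ _
          _ = _ := by
              rw [sum_congr rfl h3, ← mul_sum, sum_ite_eq, if_pos hχO, mul_one]
      rw [omega, eq_div_iff hpc, div_mul_eq_mul_div, div_eq_iff (irr_one_ne_zero χ), mul_comm, h4,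
        hd1, hq]
      push_cast
      ring
    rw [h2] at h1
    have h5 := pow_dvd_of_memLocalRing hM (n := ((u * q : ℕ) : ℤ)) (k := c)
      (by rw [Int.cast_natCast]; exact h1)
    exact ((hp.coprime_iff_not_dvd.2 hu).pow_left c).dvd_of_dvd_mul_left (by exact_mod_cast h5)
  obtain ⟨q', hq'⟩ := hqdvd
  have hq'0 : q' ≠ 0 := fun h => by
    rw [h, mul_zero] at hq'
    exact Nat.card_pos.ne' (hq.trans (by rw [hq', mul_zero]))
  have hfac : a = d.factorization p + c + q'.factorization p := by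
    rw [ha, hq, hq', Nat.factorization_mul hd0.ne' (mul_ne_zero (pow_ne_zero _ hp.ne_zero) hq'0),
      Finsupp.add_apply, Nat.factorization_mul (pow_ne_zero _ hp.ne_zero) hq'0, Finsupp.add_apply,
      hp.factorization_pow, Finsupp.single_eq_same]
    ring
  have hrd : (r * d).factorization p = c + d.factorization p := by
    rw [Nat.factorization_mul hr0 hd0.ne', Finsupp.add_apply]
  refine ⟨by omega, fun hdvd => ?_⟩
  have hv : a ≤ (r * d).factorization p :=
    (hp.pow_dvd_iff_le_factorization (mul_ne_zero hr0 hd0.ne')).1 hdvd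
  have hq'p : ¬ p ∣ q' := fun h => by
    have := hp.factorization_pos_of_dvd hq'0 h
    omega
  -- the idempotent of the orbit is locally integral
  have hB : IsIntClass M (blockCoeff (↑O : Set (IrrCharacter G))) := by
    refine ⟨isClassFunction_blockCoeff _, fun g => ?_⟩
    have e : blockCoeff (↑O : Set (IrrCharacter G)) g = w g⁻¹ * ((u : ℂ)⁻¹ * (q' : ℂ)⁻¹) := by
      rw [blockCoeff_eq_sum, show (univ.filter (· ∈ (↑O : Set (IrrCharacter G)))) = O by
        ext; simp]
      have hu0 : (u : ℂ) ≠ 0 := Nat.cast_ne_zero.2 fun h => hu (h ▸ dvd_zero p)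
      have hq0 : (q' : ℂ) ≠ 0 := Nat.cast_ne_zero.2 hq'0
      have hd0' : (d : ℂ) ≠ 0 := Nat.cast_ne_zero.2 hd0.ne'
      have hcard : (Nat.card G : ℂ) = d * ((p : ℂ) ^ c * q') := by
        rw [hq, hq']; push_cast; ring
      rw [sum_congr rfl fun ψ hψ => by rw [hdeg ψ hψ, conj_irr], ← mul_sum, hd1, hcard]
      field_simp
      linear_combination hwe g⁻¹
    rw [e]
    exact memLocalRing_mul (memLocalRing_of_isIntegral (hwi _))
      (memLocalRing_mul (memLocalRing_natCast_inv hM hu) (memLocalRing_natCast_inv hM hq'p))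
  have hvan : ∀ g : G, p ∣ orderOf g → ∑ ψ ∈ O, (ψ : G → ℂ) g = 0 := fun g hgp => by
    have h := weak_orth hM hB (g := 1) (h := g⁻¹) (by rw [orderOf_one]; exact hp.not_dvd_one)
      (by rwa [orderOf_inv])
    rw [show (univ.filter (· ∈ (↑O : Set (IrrCharacter G)))) = O by ext; simp,
      sum_congr rfl fun ψ hψ => by rw [hdeg ψ hψ, conj_irr, inv_inv], ← mul_sum] at h
    exact (mul_eq_zero.1 h).resolve_left (irr_one_ne_zero χ)
  -- restrict to a Sylow subgroup
  obtain ⟨P⟩ : Nonempty (Sylow p G) := Sylow.nonempty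
  haveI : Fintype ↥(P : Subgroup G) := Fintype.ofFinite _
  have hP : Nat.card ↥(P : Subgroup G) = p ^ a := P.card_eq_multiplicity
  obtain ⟨N, hN⟩ := exists_sum_subgroup χ (P : Subgroup G)
  have hψN : ∀ ψ ∈ O, ∑ x : ↥(P : Subgroup G), (ψ : G → ℂ) (x : G) = ((p ^ a * N : ℕ) : ℂ) := by
    intro ψ hψ
    obtain ⟨σ, -, hψσ⟩ := (mem_filter.1 hψ).2
    rw [hψσ, ← map_sum σ, hN, map_natCast, hP]
  have htot : ∑ x : ↥(P : Subgroup G), ∑ ψ ∈ O, (ψ : G → ℂ) (x : G) = (r : ℂ) * d := by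
    rw [sum_eq_single (1 : ↥(P : Subgroup G))]
    · rw [OneMemClass.coe_one, sum_congr rfl hdeg, sum_const, hr', hd1, nsmul_eq_mul]
    · intro x _ hx
      refine hvan _ ?_
      rw [Subgroup.orderOf_coe]
      obtain ⟨k, hk⟩ := IsPGroup.iff_orderOf.mp P.isPGroup' x
      rw [hk]
      refine dvd_pow_self p fun h => hx ?_
      rw [← orderOf_eq_one_iff, hk, h, pow_zero]
    · simp
  rw [sum_comm, sum_congr rfl hψN, sum_const, hr', nsmul_eq_mul] at htot
  have h6 : p ^ a * N = d :=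
    Nat.cast_injective (R := ℂ) (mul_left_cancel₀ (Nat.cast_ne_zero.2 hr0) htot)
  exact ⟨N, h6.symm⟩

end CfsgLib.PConjDegree
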