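import Mathlib.Data.ZMod.Units
import Mathlib.RingTheory.IntegralClosure.IsIntegralClosure.Basic
import Mathlib.Algebra.Ring.GeomSum
import Mathlib.Algebra.Field.GeomSum
import Mathlib.Data.Complex.Basic
import Mathlib.Algebra.Field.ZMod
import Mathlib.Algebra.BigOperators.Fin

/-!
# Sums of roots of unity over the residues congruent to one away from `p`
-/

set_option autoImplicit false
set_option linter.style.haveILetI false

namespace CfsgLib.PConjDegree

open Finset

/-- A power of a root of unity only depends on the exponent modulo the order. -/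
theorem pow_congr {M : Type*} [Monoid M] {z : M} {n a b : ℕ} (hz : z ^ n = 1)
    (h : a % n = b % n) : z ^ a = z ^ b := by
  rw [pow_eq_pow_mod a hz, pow_eq_pow_mod b hz, h]

/-- Sums over the good residues split along the residue modulo `p`. -/
theorem sum_split {p b g' : ℕ} (hp : p.Prime) (F : ℕ → ℂ) :
    ∑ t ∈ (range (p ^ (b + 1))).filter (fun t => ¬ p ∣ 1 + g' * t), F t =
      ∑ t0 ∈ (range p).filter (fun t => ¬ p ∣ 1 + g' * t), ∑ l ∈ range (p ^ b), F (t0 + p * l) := by
  rw [← sum_product']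
  refine sum_nbij' (fun t => (t % p, t / p)) (fun x => x.1 + p * x.2) ?_ ?_ ?_ ?_ ?_
  · intro t ht
    simp only [mem_filter, mem_range] at ht
    simp only [mem_product, mem_filter, mem_range]
    refine ⟨⟨Nat.mod_lt _ hp.pos, fun h => ht.2 ?_⟩, ?_⟩
    · rw [← Nat.mod_add_div t p, Nat.mul_add, ← Nat.add_assoc]
      exact dvd_add h (dvd_mul_of_dvd_right (dvd_mul_right p _) g')
    · rw [Nat.div_lt_iff_lt_mul hp.pos, ← pow_succ]
      exact ht.1
  · rintro ⟨t0, l⟩ hx
    simp only [mem_product, mem_filter, mem_range] at hx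
    simp only [mem_filter, mem_range]
    refine ⟨?_, fun h => hx.1.2 ?_⟩
    · calc t0 + p * l < p + p * l := Nat.add_lt_add_right hx.1.1 _
        _ = p * (l + 1) := by ring
        _ ≤ p * p ^ b := Nat.mul_le_mul_left _ hx.2
        _ = p ^ (b + 1) := by ring
    · rw [Nat.mul_add, ← Nat.add_assoc] at h
      exact (Nat.dvd_add_left (dvd_mul_of_dvd_right (dvd_mul_right p l) g')).1 h
  · intro t _
    exact Nat.mod_add_div t p
  · rintro ⟨t0, l⟩ hx
    simp only [mem_product, mem_filter, mem_range] at hx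
    simp [Nat.add_mul_mod_self_left, Nat.mod_eq_of_lt hx.1.1, Nat.add_mul_div_left _ _ hp.pos,
      Nat.div_eq_of_lt hx.1.1]
  · intro t _
    rw [Nat.mod_add_div]

theorem sum_pow_range {w : ℂ} {N : ℕ} (hw : w ^ N = 1) :
    ∑ l ∈ range N, w ^ l = if w = 1 then (N : ℂ) else 0 := by
  split_ifs with h
  · simp [h]
  · rw [geom_sum_eq h, hw, sub_self, zero_div]

theorem exists_count {p g' : ℕ} (hp : p.Prime) (hg : ¬ p ∣ g') :
    ¬ p ∣ ((range p).filter (fun t => ¬ p ∣ 1 + g' * t)).card := by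
  haveI := Fact.mk hp
  have hlt : ((range p).filter (fun t => ¬ p ∣ 1 + g' * t)).card < p := by
    refine lt_of_lt_of_eq (card_lt_card (filter_ssubset.2
      ⟨(-(g' : ZMod p)⁻¹).val, mem_range.2 (ZMod.val_lt _), not_not.2 ?_⟩)) (card_range p)
    rw [← ZMod.natCast_eq_zero_iff]
    have hg0 : (g' : ZMod p) ≠ 0 := mt (ZMod.natCast_eq_zero_iff g' p).1 hg
    push_cast
    rw [ZMod.natCast_zmod_val, mul_neg, mul_inv_cancel₀ hg0, add_neg_cancel]
  have hpos : 0 < ((range p).filter (fun t => ¬ p ∣ 1 + g' * t)).card := by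
    refine card_pos.2 ⟨0, mem_filter.2 ⟨mem_range.2 hp.pos, ?_⟩⟩
    rw [Nat.mul_zero, Nat.add_zero]
    exact hp.not_dvd_one
  exact fun h => absurd (Nat.le_of_dvd hpos h) (not_le.2 hlt)

/-- The residues prime to `p ^ a * g'` congruent to one modulo `g'`, as natural numbers. -/
theorem exists_residue_sum {p a g' : ℕ} (hp : p.Prime) (hg : ¬ p ∣ g') :
    ∃ u : ℕ, ¬ p ∣ u ∧
      ((range (p ^ a)).filter (fun t => a = 0 ∨ ¬ p ∣ 1 + g' * t)).card = p ^ (a - 1) * u ∧
      ∀ z : ℂ, z ^ (g' * p ^ a) = 1 → ∃ w : ℂ, IsIntegral ℤ w ∧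
        ∑ t ∈ (range (p ^ a)).filter (fun t => a = 0 ∨ ¬ p ∣ 1 + g' * t), z ^ (1 + g' * t) =
          (p : ℂ) ^ (a - 1) * w := by
  have hint : ∀ (z : ℂ) (k : ℕ), z ^ (g' * p ^ a) = 1 → IsIntegral ℤ (z ^ k) := fun z k hz =>
    (IsIntegral.of_pow (Nat.pos_of_ne_zero (mul_ne_zero (fun (h : g' = 0) => hg (h.symm ▸ dvd_zero p))
      (pow_ne_zero _ hp.ne_zero))) (hz ▸ isIntegral_one)).pow k
  cases a with
  | zero =>
    refine ⟨1, hp.not_dvd_one, by simp, fun z hz => ?_⟩
    exact ⟨∑ t ∈ (range (p ^ 0)).filter (fun t => 0 = 0 ∨ ¬ p ∣ 1 + g' * t), z ^ (1 + g' * t),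
      IsIntegral.sum _ fun t _ => hint z (1 + g' * t) hz, by simp⟩
  | succ b =>
    simp only [Nat.succ_ne_zero, false_or, Nat.add_sub_cancel]
    refine ⟨((range p).filter (fun t => ¬ p ∣ 1 + g' * t)).card, exists_count hp hg, ?_, ?_⟩
    · have h := sum_split (b := b) (g' := g') hp (fun _ => (1 : ℂ))
      simp only [sum_const, card_range, nsmul_eq_mul, mul_one] at h
      rw [← @Nat.cast_inj ℂ]
      rw [h]
      push_cast
      ring
    · intro z hz
      rw [sum_split hp (fun t => z ^ (1 + g' * t))]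
      have hwN : (z ^ (g' * p)) ^ (p ^ b) = 1 := by
        rw [← pow_mul, Nat.mul_assoc, ← pow_succ', hz]
      refine ⟨if z ^ (g' * p) = 1 then
        ∑ t0 ∈ (range p).filter (fun t => ¬ p ∣ 1 + g' * t), z ^ (1 + g' * t0) else 0, ?_, ?_⟩
      · split_ifs
        · exact IsIntegral.sum _ fun t _ => hint z _ hz
        · exact isIntegral_zero
      · have hin : ∀ t0 : ℕ, ∑ l ∈ range (p ^ b), z ^ (1 + g' * (t0 + p * l)) =
            z ^ (1 + g' * t0) * ∑ l ∈ range (p ^ b), (z ^ (g' * p)) ^ l := fun t0 => by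
          rw [mul_sum]
          refine sum_congr rfl fun l _ => ?_
          rw [← pow_mul, ← pow_add]
          congr 1
          ring
        simp only [hin, sum_pow_range hwN]
        split_ifs with h
        · rw [mul_sum]
          exact sum_congr rfl fun t _ => by push_cast; ring
        · simp

open scoped Classical in
/-- The group of units congruent to one away from `p`. -/
theorem exists_units_sum {p a g' n : ℕ} [NeZero n] (hp : p.Prime) (hg : ¬ p ∣ g')
    (hn : g' * p ^ a = n) (U : Subgroup (ZMod n)ˣ)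
    (hU : U = (ZMod.unitsMap (hn ▸ dvd_mul_right g' (p ^ a) : g' ∣ n)).ker) :
    ∃ u : ℕ, ¬ p ∣ u ∧ Nat.card U = p ^ (a - 1) * u ∧
      ∀ z : ℂ, z ^ n = 1 → ∃ w : ℂ, IsIntegral ℤ w ∧
        ∑ j : U, z ^ ((j : (ZMod n)ˣ) : ZMod n).val = (p : ℂ) ^ (a - 1) * w := by
  obtain ⟨u, hu, hcard, hsum⟩ := exists_residue_sum (a := a) hp hg
  set T := (range (p ^ a)).filter (fun t => a = 0 ∨ ¬ p ∣ 1 + g' * t) with hT
  have hg0 : g' ≠ 0 := fun h => hg (h ▸ dvd_zero p)
  have hco : ∀ t ∈ T, (1 + g' * t).Coprime n := fun t ht => by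
    rw [← hn]
    refine Nat.Coprime.mul_right ?_ ?_
    · rw [Nat.coprime_add_mul_left_left]
      exact Nat.coprime_one_left g'
    · rcases (mem_filter.1 ht).2 with h | h
      · subst h
        simp
      · exact Nat.Coprime.pow_right _ (Nat.coprime_comm.1 ((hp.coprime_iff_not_dvd).2 h))
  let f : T → U := fun t => ⟨ZMod.unitOfCoprime (1 + g' * t.1) (hco t.1 t.2), by
    rw [hU, MonoidHom.mem_ker]
    refine Units.ext ?_
    rw [ZMod.unitsMap_val, ZMod.coe_unitOfCoprime,
      ZMod.cast_natCast (hn ▸ dvd_mul_right g' (p ^ a))]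
    push_cast
    rw [ZMod.natCast_self, zero_mul, add_zero]⟩
  have hf : Function.Bijective f := by
    refine ⟨fun s t h => ?_, fun j => ?_⟩
    · have h1 : ((1 + g' * s.1 : ℕ) : ZMod n) = ((1 + g' * t.1 : ℕ) : ZMod n) :=
        congrArg (fun x : U => (((x : (ZMod n)ˣ)) : ZMod n)) h
      rw [ZMod.natCast_eq_natCast_iff, ← hn] at h1
      have h2 := Nat.ModEq.mul_left_cancel' hg0 (Nat.ModEq.add_left_cancel' 1 h1)
      exact Subtype.ext (Nat.ModEq.eq_of_lt_of_lt h2 (mem_range.1 (mem_filter.1 s.2).1)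
        (mem_range.1 (mem_filter.1 t.2).1))
    · have hj : (j : (ZMod n)ˣ) ∈ (ZMod.unitsMap (hn ▸ dvd_mul_right g' (p ^ a) : g' ∣ n)).ker :=
        hU ▸ j.2
      rw [MonoidHom.mem_ker] at hj
      have hj' := congrArg (Units.val) hj
      rw [ZMod.unitsMap_val, Units.val_one, ZMod.cast_eq_val] at hj'
      set v := ((j : (ZMod n)ˣ) : ZMod n).val with hv
      have hn0 : 0 < n := Nat.pos_of_ne_zero (NeZero.ne n)
      obtain ⟨t, ht⟩ : g' ∣ v + n - 1 := by
        rw [← ZMod.natCast_eq_zero_iff, Nat.cast_sub (by omega), Nat.cast_add, hj', Nat.cast_one,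
          ← hn, Nat.cast_mul, ZMod.natCast_self, zero_mul, add_zero, sub_self]
      have hkey : ((1 + g' * (t % p ^ a) : ℕ) : ZMod n) = (v : ZMod n) := by
        have h1 : g' * (t % p ^ a) ≡ g' * t [MOD n] := hn ▸ (Nat.mod_modEq t (p ^ a)).mul_left' g'
        rw [Nat.cast_add, (ZMod.natCast_eq_natCast_iff _ _ _).2 h1, ← ht,
          Nat.cast_sub (by omega), Nat.cast_add, ZMod.natCast_self]
        ring
      have hvco : v.Coprime n := ZMod.val_coe_unit_coprime _
      refine ⟨⟨t % p ^ a, mem_filter.2 ⟨mem_range.2 (Nat.mod_lt _ (pow_pos hp.pos a)), ?_⟩⟩, ?_⟩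
      · by_contra hcon
        rw [not_or, not_not] at hcon
        have hpn : p ∣ n := hn ▸ Dvd.dvd.mul_left (dvd_pow_self p hcon.1) g'
        have h1 : p ∣ v := by
          have := ((ZMod.natCast_eq_natCast_iff _ _ _).1 hkey).of_dvd hpn
          exact Nat.modEq_zero_iff_dvd.1 (this.symm.trans (Nat.modEq_zero_iff_dvd.2 hcon.2))
        exact hp.not_dvd_one (hvco.gcd_eq_one ▸ Nat.dvd_gcd h1 hpn)
      · refine Subtype.ext (Units.ext ?_)
        show ((1 + g' * (t % p ^ a) : ℕ) : ZMod n) = _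
        rw [hkey, hv, ZMod.natCast_zmod_val]
  refine ⟨u, hu, ?_, fun z hz => ?_⟩
  · rw [← Nat.card_eq_of_bijective f hf, Nat.card_eq_fintype_card, Fintype.card_coe, hcard]
  · obtain ⟨w, hw, he⟩ := hsum z (by rw [hn]; exact hz)
    refine ⟨w, hw, ?_⟩
    rw [← he, ← Finset.sum_coe_sort T]
    refine (Fintype.sum_bijective f hf (fun t : T => z ^ (1 + g' * t.1)) _ fun t => ?_).symm
    refine pow_congr hz ?_
    show (1 + g' * t.1) % n = (((1 + g' * t.1 : ℕ) : ZMod n)).val % n
    rw [ZMod.val_natCast, Nat.mod_mod]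

end CfsgLib.PConjDegree
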